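import Mathlib
import Cfsg.Agent.H815.RC.Four

/-!
# S3510 part B, box BO4: the automorphisms commuting with `t` (helper815)
-/

set_option autoImplicit false
open Matrix
open scoped Kronecker

namespace Cfsg.Agent.H815.RC

open Cfsg.Agent.H106.RC Cfsg.Agent.H999.PslGraph Cfsg.Agent.H384.RC
open Cfsg.Agent.ClassicalGeometry.AutPSL.Auto

variable {F : Type*} [Field F]

theorem kron_cancel_right {P Q b : Matrix (Fin 2) (Fin 2) F} (hb : b ≠ 0) (h : P ⊗ₖ b = Q ⊗ₖ b) :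
    P = Q := by
  obtain ⟨k, l, hkl⟩ : ∃ k l, b k l ≠ 0 := by
    by_contra hcon
    push Not at hcon
    exact hb (by ext k l; exact hcon k l)
  ext i j
  have := congrFun (congrFun h (i, k)) (j, l)
  simp only [Matrix.kroneckerMap_apply] at this
  exact mul_right_cancel₀ hkl this

theorem kron_cancel_left {P Q b : Matrix (Fin 2) (Fin 2) F} (hb : b ≠ 0) (h : b ⊗ₖ P = b ⊗ₖ Q) :
    P = Q := by
  obtain ⟨k, l, hkl⟩ : ∃ k l, b k l ≠ 0 := by
    by_contra hcon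
    push Not at hcon
    exact hb (by ext k l; exact hcon k l)
  ext i j
  have := congrFun (congrFun h (k, i)) (l, j)
  simp only [Matrix.kroneckerMap_apply] at this
  exact mul_left_cancel₀ hkl this

/-- `Cj (a ⊗ 1)` -/
noncomputable def fA (F : Type*) [Field F] : SpecialLinearGroup (Fin 2) F →*
    MulAut (Matrix.ProjectiveSpecialLinearGroup I4 F) := Cj.comp kl

/-- `Cj (1 ⊗ b)` -/
noncomputable def fB (F : Type*) [Field F] : SpecialLinearGroup (Fin 2) F →*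
    MulAut (Matrix.ProjectiveSpecialLinearGroup I4 F) := Cj.comp kr

theorem fA_apply (a : SpecialLinearGroup (Fin 2) F) : fA F a = Cj (kl a) := rfl
theorem fB_apply (a : SpecialLinearGroup (Fin 2) F) : fB F a = Cj (kr a) := rfl

theorem fA_inn (a : SpecialLinearGroup (Fin 2) F) : fA F a ∈ inn _ := Cj_mem_inn _ (det_kl a)
theorem fB_inn (a : SpecialLinearGroup (Fin 2) F) : fB F a ∈ inn _ := Cj_mem_inn _ (det_kr a)

theorem fA_fB (a b : SpecialLinearGroup (Fin 2) F) : fA F a * fB F b = fB F b * fA F a := by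
  rw [fA_apply, fB_apply, ← map_mul, kl_kr, map_mul]

theorem mem_center_two (k : SpecialLinearGroup (Fin 2) F) :
    k ∈ Subgroup.center (SpecialLinearGroup (Fin 2) F) ↔ ∃ c : F, k.1 = c • 1 := by
  constructor
  · intro h
    obtain ⟨c, -, hc⟩ := Matrix.SpecialLinearGroup.mem_center_iff.1 h
    exact ⟨c, by rw [← hc, Matrix.smul_one_eq_diagonal]; rfl⟩
  · rintro ⟨c, hc⟩
    rw [Subgroup.mem_center_iff]
    intro g
    apply Subtype.ext
    show g.1 * k.1 = k.1 * g.1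
    rw [hc, Matrix.mul_smul, Matrix.smul_mul, Matrix.mul_one, Matrix.one_mul]

theorem one_kron_one : (1 : Matrix I4 I4 F) = 1 ⊗ₖ 1 := Matrix.one_kronecker_one.symm

theorem fA_eq_one (k : SpecialLinearGroup (Fin 2) F) :
    fA F k = 1 ↔ k ∈ Subgroup.center (SpecialLinearGroup (Fin 2) F) := by
  rw [fA_apply, Cj_eq_one_iff, mem_center_two]
  refine exists_congr fun c => ?_
  rw [coe_kl, one_kron_one, ← Matrix.smul_kronecker]
  constructor
  · intro h
    exact kron_cancel_right one_ne_zero h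
  · intro h
    rw [h]

theorem fB_eq_one (k : SpecialLinearGroup (Fin 2) F) :
    fB F k = 1 ↔ k ∈ Subgroup.center (SpecialLinearGroup (Fin 2) F) := by
  rw [fB_apply, Cj_eq_one_iff, mem_center_two]
  refine exists_congr fun c => ?_
  rw [coe_kr, one_kron_one, ← Matrix.kronecker_smul]
  constructor
  · intro h
    exact kron_cancel_left one_ne_zero h
  · intro h
    rw [h]

/-- `PSL₂(F)` is not commutative -/
theorem psl_not_comm (F : Type*) [Field F] :
    ¬ IsMulCommutative (SpecialLinearGroup (Fin 2) F ⧸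
      Subgroup.center (SpecialLinearGroup (Fin 2) F)) := by
  intro h
  have h1 : (QuotientGroup.mk (uSL (1 : F) * lSL 1) : SpecialLinearGroup (Fin 2) F ⧸
      Subgroup.center (SpecialLinearGroup (Fin 2) F)) = QuotientGroup.mk (lSL (1 : F) * uSL 1) := by
    rw [QuotientGroup.mk_mul, QuotientGroup.mk_mul]
    exact h.is_comm.comm _ _
  rw [QuotientGroup.eq, mem_center_two] at h1
  obtain ⟨c, hc⟩ := h1
  have h2 : (lSL (1 : F) * uSL 1).1 = c • (uSL (1 : F) * lSL 1).1 := by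
    have e : (lSL (1 : F) * uSL 1) =
        (uSL (1 : F) * lSL 1) * ((uSL (1 : F) * lSL 1)⁻¹ * (lSL (1 : F) * uSL 1)) := by
      group
    rw [e]
    change (uSL (1 : F) * lSL 1).1 * ((uSL (1 : F) * lSL 1)⁻¹ * (lSL (1 : F) * uSL 1)).1 = _
    rw [hc, Matrix.mul_smul, Matrix.mul_one]
  have h3 : (lSL (1 : F) * uSL 1).1 = !![1, 1; 1, 2] := by
    change !![1, 0; 1, 1] * !![1, 1; 0, 1] = _
    rw [Matrix.mul_fin_two]
    ext i j
    fin_cases i <;> fin_cases j <;> simp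
    norm_num
  have h4 : (uSL (1 : F) * lSL 1).1 = !![2, 1; 1, 1] := by
    change !![1, 1; 0, 1] * !![1, 0; 1, 1] = _
    rw [Matrix.mul_fin_two]
    ext i j
    fin_cases i <;> fin_cases j <;> simp
    norm_num
  rw [h3, h4] at h2
  have e1 := congrFun (congrFun h2 0) 1
  have e0 := congrFun (congrFun h2 0) 0
  simp at e0 e1
  rw [← e1] at e0
  norm_num at e0
  exact one_ne_zero (α := F) (by linear_combination -e0)

section sem

variable (A : GL I4 F) (σ : F ≃+* F)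

theorem mg_kl (c : SpecialLinearGroup (Fin 2) F) :
    (mg σ (kl c) : Matrix I4 I4 F) = (c.1.map σ) ⊗ₖ 1 := by
  rw [coe_mg, coe_kl]
  ext ⟨i, j⟩ ⟨k, l⟩
  simp only [Matrix.map_apply, Matrix.kroneckerMap_apply, map_mul]
  congr 1
  rw [Matrix.one_apply]
  split_ifs
  · exact map_one σ
  · exact map_zero σ

theorem mg_kr (c : SpecialLinearGroup (Fin 2) F) :
    (mg σ (kr c) : Matrix I4 I4 F) = 1 ⊗ₖ (c.1.map σ) := by
  rw [coe_mg, coe_kr]
  ext ⟨i, j⟩ ⟨k, l⟩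
  simp only [Matrix.map_apply, Matrix.kroneckerMap_apply, map_mul]
  congr 1
  rw [Matrix.one_apply]
  split_ifs
  · exact map_one σ
  · exact map_zero σ

theorem det_ne_of {a b : Matrix (Fin 2) (Fin 2) F} (h : IsUnit (a ⊗ₖ b)) :
    a.det ≠ 0 ∧ b.det ≠ 0 := by
  rw [Matrix.isUnit_iff_isUnit_det, Matrix.det_kronecker, isUnit_iff_ne_zero] at h
  have h1 := left_ne_zero_of_mul h
  have h2 := right_ne_zero_of_mul h
  exact ⟨fun h => h1 (by rw [h]; simp), fun h => h2 (by rw [h]; simp)⟩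

/-- `a σ(c) a⁻¹` -/
theorem exists_cj {a : Matrix (Fin 2) (Fin 2) F} (ha : a.det ≠ 0)
    (c : SpecialLinearGroup (Fin 2) F) :
    ∃ c' : SpecialLinearGroup (Fin 2) F, c'.1 * a = a * c.1.map σ := by
  have hu : IsUnit a.det := isUnit_iff_ne_zero.2 ha
  refine ⟨⟨a * c.1.map σ * a⁻¹, ?_⟩, ?_⟩
  · have h1 : (c.1.map σ).det = 1 := by
      have := RingHom.map_det (σ : F →+* F) c.1
      rw [c.2, map_one] at this
      exact this.symm
    rw [det_mul, det_mul, h1, mul_one, ← det_mul, Matrix.mul_nonsing_inv a hu, det_one]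
  · show a * c.1.map σ * a⁻¹ * a = _
    rw [Matrix.mul_assoc, Matrix.nonsing_inv_mul a hu, Matrix.mul_one]

variable {A}

theorem sem_kl {a b : Matrix (Fin 2) (Fin 2) F} (hA : (A : Matrix I4 I4 F) = a ⊗ₖ b)
    (c : SpecialLinearGroup (Fin 2) F) :
    ∃ c', Sem A σ * fA F c * (Sem A σ)⁻¹ = fA F c' := by
  have hd : a.det ≠ 0 ∧ b.det ≠ 0 := det_ne_of (by rw [← hA]; exact A.isUnit)
  obtain ⟨c', hc'⟩ := exists_cj σ hd.1 c
  refine ⟨c', ?_⟩
  rw [fA_apply, fA_apply, Sem_conj_Cj]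
  congr 1
  rw [mul_inv_eq_iff_eq_mul]
  apply Units.ext
  rw [Units.val_mul, Units.val_mul, mg_kl, coe_kl, hA, ← Matrix.mul_kronecker_mul,
    ← Matrix.mul_kronecker_mul, hc', Matrix.mul_one, Matrix.one_mul]

theorem sem_kr {a b : Matrix (Fin 2) (Fin 2) F} (hA : (A : Matrix I4 I4 F) = a ⊗ₖ b)
    (c : SpecialLinearGroup (Fin 2) F) :
    ∃ c', Sem A σ * fB F c * (Sem A σ)⁻¹ = fB F c' := by
  have hd : a.det ≠ 0 ∧ b.det ≠ 0 := det_ne_of (by rw [← hA]; exact A.isUnit)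
  obtain ⟨c', hc'⟩ := exists_cj σ hd.2 c
  refine ⟨c', ?_⟩
  rw [fB_apply, fB_apply, Sem_conj_Cj]
  congr 1
  rw [mul_inv_eq_iff_eq_mul]
  apply Units.ext
  rw [Units.val_mul, Units.val_mul, mg_kr, coe_kr, hA, ← Matrix.mul_kronecker_mul,
    ← Matrix.mul_kronecker_mul, hc', Matrix.mul_one, Matrix.one_mul]

theorem swap_mul (X : Matrix I4 I4 F) (P Q : Matrix (Fin 2) (Fin 2) F) :
    X.submatrix id Prod.swap * (P ⊗ₖ Q) = (X * (Q ⊗ₖ P)).submatrix id Prod.swap := by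
  have h : P ⊗ₖ Q = (Q ⊗ₖ P).submatrix (Equiv.prodComm (Fin 2) (Fin 2)) Prod.swap := by
    ext ⟨i, j⟩ ⟨k, l⟩
    simp [mul_comm]
  rw [h]
  exact Matrix.submatrix_mul_equiv X (Q ⊗ₖ P) id (Equiv.prodComm (Fin 2) (Fin 2)) Prod.swap

theorem mul_swap (X Y : Matrix I4 I4 F) :
    Y * X.submatrix id Prod.swap = (Y * X).submatrix id Prod.swap := by
  ext i j
  simp [Matrix.mul_apply]

theorem swap_det {a b : Matrix (Fin 2) (Fin 2) F}
    (hA : (A : Matrix I4 I4 F) = (a ⊗ₖ b).submatrix id Prod.swap) : a.det ≠ 0 ∧ b.det ≠ 0 := by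
  apply det_ne_of
  have h1 : (a ⊗ₖ b) = (A : Matrix I4 I4 F).submatrix id Prod.swap := by
    rw [hA]
    ext ⟨i, j⟩ ⟨k, l⟩
    simp
  rw [h1, Matrix.isUnit_iff_isUnit_det]
  have h2 : ((A : Matrix I4 I4 F).submatrix id Prod.swap).det =
      Equiv.Perm.sign (Equiv.prodComm (Fin 2) (Fin 2)) * (A : Matrix I4 I4 F).det :=
    Matrix.det_permute' (Equiv.prodComm (Fin 2) (Fin 2)) (A : Matrix I4 I4 F)
  rw [h2]
  have h3 : IsUnit (A : Matrix I4 I4 F).det := (Matrix.isUnit_iff_isUnit_det _).1 A.isUnit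
  refine IsUnit.mul ?_ h3
  rcases Int.units_eq_one_or (Equiv.Perm.sign (Equiv.prodComm (Fin 2) (Fin 2))) with h | h <;>
    rw [h] <;> simp

theorem swap_kl {a b : Matrix (Fin 2) (Fin 2) F}
    (hA : (A : Matrix I4 I4 F) = (a ⊗ₖ b).submatrix id Prod.swap)
    (c : SpecialLinearGroup (Fin 2) F) :
    ∃ c', Sem A σ * fA F c * (Sem A σ)⁻¹ = fB F c' := by
  have hd := swap_det hA
  obtain ⟨c', hc'⟩ := exists_cj σ hd.2 c
  refine ⟨c', ?_⟩
  rw [fA_apply, fB_apply, Sem_conj_Cj]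
  congr 1
  rw [mul_inv_eq_iff_eq_mul]
  apply Units.ext
  rw [Units.val_mul, Units.val_mul, mg_kl, coe_kr, hA, swap_mul, mul_swap,
    ← Matrix.mul_kronecker_mul, ← Matrix.mul_kronecker_mul, hc', Matrix.mul_one, Matrix.one_mul]

theorem swap_kr {a b : Matrix (Fin 2) (Fin 2) F}
    (hA : (A : Matrix I4 I4 F) = (a ⊗ₖ b).submatrix id Prod.swap)
    (c : SpecialLinearGroup (Fin 2) F) :
    ∃ c', Sem A σ * fB F c * (Sem A σ)⁻¹ = fA F c' := by
  have hd := swap_det hA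
  obtain ⟨c', hc'⟩ := exists_cj σ hd.1 c
  refine ⟨c', ?_⟩
  rw [fA_apply, fB_apply, Sem_conj_Cj]
  congr 1
  rw [mul_inv_eq_iff_eq_mul]
  apply Units.ext
  rw [Units.val_mul, Units.val_mul, mg_kr, coe_kl, hA, swap_mul, mul_swap,
    ← Matrix.mul_kronecker_mul, ← Matrix.mul_kronecker_mul, hc', Matrix.mul_one, Matrix.one_mul]

/-- an element of odd order does not interchange -/
theorem odd_swap {K G : Type*} [Group K] [Group G] (f₁ f₂ : K →* G) (x : G) {r : ℕ} (hr : Odd r)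
    (hx : x ^ r = 1) (h₁ : ∀ k, ∃ k', x * f₁ k * x⁻¹ = f₂ k')
    (h₂ : ∀ k, ∃ k', x * f₂ k * x⁻¹ = f₁ k') (k : K) : ∃ k', f₁ k = f₂ k' := by
  have hpow : ∀ m : ℕ, ∀ k, ∃ k', x ^ (2 * m) * f₁ k * (x ^ (2 * m))⁻¹ = f₁ k' := by
    intro m
    induction m with
    | zero => intro k; exact ⟨k, by simp⟩
    | succ m ih =>
      intro k
      obtain ⟨k', hk'⟩ := ih k
      obtain ⟨l, hl⟩ := h₁ k'
      obtain ⟨l', hl'⟩ := h₂ l
      refine ⟨l', ?_⟩
      rw [← hl', ← hl, ← hk']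
      have e : 2 * (m + 1) = 2 * m + 1 + 1 := by ring
      rw [e, pow_succ', pow_succ']
      group
  obtain ⟨m, rfl⟩ := hr
  obtain ⟨k', hk'⟩ := hpow m k
  obtain ⟨l, hl⟩ := h₁ k'
  refine ⟨l, ?_⟩
  rw [← hl, ← hk']
  have e : x * (x ^ (2 * m) * f₁ k * (x ^ (2 * m))⁻¹) * x⁻¹ =
      x ^ (2 * m + 1) * f₁ k * (x ^ (2 * m + 1))⁻¹ := by
    rw [pow_succ']
    group
  rw [e, hx, one_mul, inv_one, mul_one]

theorem fA_ne_fB : ¬ ∀ k : SpecialLinearGroup (Fin 2) F, ∃ k', fA F k = fB F k' := by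
  intro h
  have h1 : ∀ k l, fA F (k * l) = fA F (l * k) := by
    intro k l
    obtain ⟨k', hk'⟩ := h k
    rw [map_mul, map_mul, hk', fA_fB]
  apply psl_not_comm F
  constructor
  constructor
  intro a b
  induction a using QuotientGroup.induction_on with
  | H a =>
    induction b using QuotientGroup.induction_on with
    | H b =>
      rw [← QuotientGroup.mk_mul, ← QuotientGroup.mk_mul, QuotientGroup.eq, ← fA_eq_one, map_mul,
        map_inv, h1 a b, inv_mul_cancel]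

theorem scal_of {a : Matrix (Fin 2) (Fin 2) F}
    (hu : ∀ s : F, a * (uSL s).1.map σ = (uSL s).1 * a)
    (hl : a * (lSL 1).1.map σ = (lSL 1).1 * a) :
    a = a 0 0 • 1 ∧ ∀ s, a 0 0 * σ s = s * a 0 0 := by
  have hu1 := hu 1
  have e0 := congrFun (congrFun hu1 0) 0
  have e1 := congrFun (congrFun hu1 0) 1
  have e2 := congrFun (congrFun hl 0) 0
  simp [uSL, lSL, Matrix.mul_apply, Fin.sum_univ_two] at e0 e1 e2
  have h11 : a 0 0 = a 1 1 := by linear_combination e1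
  refine ⟨?_, ?_⟩
  · ext i j
    fin_cases i <;> fin_cases j <;> simp [e0, e2, h11]
  · intro s
    have e3 := congrFun (congrFun (hu s) 0) 1
    simp [uSL, Matrix.mul_apply, Fin.sum_univ_two] at e3
    rw [← h11] at e3
    linear_combination e3

theorem nil_of {N : Matrix I4 I4 F} (h : N * N = 0) : IsNilpotent N := ⟨2, by rw [pow_two, h]⟩

theorem kl_sub (u : SpecialLinearGroup (Fin 2) F) :
    (kl u : Matrix I4 I4 F) - 1 = (u.1 - 1) ⊗ₖ 1 := by
  rw [coe_kl, one_kron_one]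
  ext ⟨i, j⟩ ⟨k, l⟩
  simp only [Matrix.sub_apply, Matrix.kroneckerMap_apply]
  ring

theorem kr_sub (u : SpecialLinearGroup (Fin 2) F) :
    (kr u : Matrix I4 I4 F) - 1 = 1 ⊗ₖ (u.1 - 1) := by
  rw [coe_kr, one_kron_one]
  ext ⟨i, j⟩ ⟨k, l⟩
  simp only [Matrix.sub_apply, Matrix.kroneckerMap_apply]
  ring

theorem u_sq (s : F) : ((uSL s).1 - 1) * ((uSL s).1 - 1) = 0 := by
  ext i j
  fin_cases i <;> fin_cases j <;> simp [uSL, Matrix.mul_apply, Fin.sum_univ_two]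

theorem l_sq (s : F) : ((lSL s).1 - 1) * ((lSL s).1 - 1) = 0 := by
  ext i j
  fin_cases i <;> fin_cases j <;> simp [lSL, Matrix.mul_apply, Fin.sum_univ_two]

theorem exact_kl {a b : Matrix (Fin 2) (Fin 2) F} (hA : (A : Matrix I4 I4 F) = a ⊗ₖ b) (hb : b ≠ 0)
    (u : SpecialLinearGroup (Fin 2) F) (hu : (u.1 - 1) * (u.1 - 1) = 0)
    (h : Sem A σ * fA F u = fA F u * Sem A σ) : a * u.1.map σ = u.1 * a := by
  rw [fA_apply, Sem_comm_iff] at h
  obtain ⟨c, -, hc⟩ := h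
  have h1 := unip_exact A σ (kl u) (nil_of (by
    rw [kl_sub, ← Matrix.mul_kronecker_mul, hu, Matrix.zero_kronecker])) hc
  rw [← coe_mg, mg_kl, hA, coe_kl, ← Matrix.mul_kronecker_mul, ← Matrix.mul_kronecker_mul,
    Matrix.mul_one, Matrix.one_mul] at h1
  exact kron_cancel_right hb h1

theorem exact_kr {a b : Matrix (Fin 2) (Fin 2) F} (hA : (A : Matrix I4 I4 F) = a ⊗ₖ b) (ha : a ≠ 0)
    (u : SpecialLinearGroup (Fin 2) F) (hu : (u.1 - 1) * (u.1 - 1) = 0)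
    (h : Sem A σ * fB F u = fB F u * Sem A σ) : b * u.1.map σ = u.1 * b := by
  rw [fB_apply, Sem_comm_iff] at h
  obtain ⟨c, -, hc⟩ := h
  have h1 := unip_exact A σ (kr u) (nil_of (by
    rw [kr_sub, ← Matrix.mul_kronecker_mul, hu, Matrix.kronecker_zero])) hc
  rw [← coe_mg, mg_kr, hA, coe_kr, ← Matrix.mul_kronecker_mul, ← Matrix.mul_kronecker_mul,
    Matrix.mul_one, Matrix.one_mul] at h1
  exact kron_cancel_left ha h1

/-- nothing centralises both -/
theorem sem_cent {a b : Matrix (Fin 2) (Fin 2) F} (hA : (A : Matrix I4 I4 F) = a ⊗ₖ b)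
    (h₁ : ∀ k, Sem A σ * fA F k = fA F k * Sem A σ)
    (h₂ : ∀ k, Sem A σ * fB F k = fB F k * Sem A σ) : Sem A σ = 1 := by
  have hd : a.det ≠ 0 ∧ b.det ≠ 0 := det_ne_of (by rw [← hA]; exact A.isUnit)
  have ha : a ≠ 0 := by
    rintro rfl
    exact hd.1 (by simp)
  have hb : b ≠ 0 := by
    rintro rfl
    exact hd.2 (by simp)
  obtain ⟨ha1, hσ⟩ := scal_of σ (fun s => exact_kl σ hA hb (uSL s) (u_sq s) (h₁ _))
    (exact_kl σ hA hb (lSL 1) (l_sq 1) (h₁ _))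
  obtain ⟨hb1, -⟩ := scal_of σ (fun s => exact_kr σ hA ha (uSL s) (u_sq s) (h₂ _))
    (exact_kr σ hA ha (lSL 1) (l_sq 1) (h₂ _))
  have ha0 : a 0 0 ≠ 0 := by
    intro h
    rw [h, zero_smul] at ha1
    exact ha ha1
  have hσ1 : σ = RingEquiv.refl F := by
    apply RingEquiv.ext
    intro s
    apply mul_left_cancel₀ ha0
    rw [hσ s, mul_comm]
    rfl
  rw [hσ1, Sem_one, Cj_eq_one_iff]
  refine ⟨a 0 0 * b 0 0, ?_⟩
  rw [hA, ha1, hb1, one_kron_one, Matrix.smul_kronecker, Matrix.kronecker_smul, smul_smul]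
  simp

end sem

end Cfsg.Agent.H815.RC
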