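import Mathlib
import Cfsg.Agent.H384.RC.Asm
import Cfsg.Agent.LieClassical.SLGen
import Cfsg.Agent.H815.RC.Sem

/-!
# S3510 part B, box BO4: `PSL₄(q)`, plus type, `q` odd, `q ≥ 5` (helper815)
-/

set_option autoImplicit false
open Matrix MulAction
open scoped Kronecker

namespace Cfsg.Agent.H815.RC

open Cfsg.Agent.H106.RC Cfsg.Agent.H999.PslGraph Cfsg.Agent.H384.RC
open Cfsg.Agent.ClassicalGeometry.AutPSL.Auto

section tt

variable {F : Type} [Field F]

/-- the form -/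
def jj (F : Type*) [Field F] : Matrix I4 I4 F := !![0, 1; -1, 0] ⊗ₖ !![0, 1; -1, 0]

theorem jj_jj : jj F * jj F = 1 := by
  rw [jj, ← Matrix.mul_kronecker_mul, Matrix.mul_fin_two]
  ext ⟨i, j⟩ ⟨k, l⟩
  fin_cases i <;> fin_cases j <;> fin_cases k <;> fin_cases l <;> simp

theorem jj_T : (jj F)ᵀ = jj F := by
  ext ⟨i, j⟩ ⟨k, l⟩
  fin_cases i <;> fin_cases j <;> fin_cases k <;> fin_cases l <;> simp [jj]

theorem two_J (a : SpecialLinearGroup (Fin 2) F) :
    a.1ᵀ * !![0, 1; -1, 0] * a.1 = !![0, 1; -1, 0] := by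
  have hd : a.1 0 0 * a.1 1 1 - a.1 0 1 * a.1 1 0 = 1 := by
    rw [← Matrix.det_fin_two]; exact a.2
  ext i j
  fin_cases i <;> fin_cases j <;> simp [Matrix.mul_apply, Fin.sum_univ_two]
  · ring
  · linear_combination hd
  · linear_combination -hd
  · ring

theorem jj_kl (a : SpecialLinearGroup (Fin 2) F) :
    (kl a : Matrix I4 I4 F)ᵀ * jj F * (kl a : Matrix I4 I4 F) = jj F := by
  rw [coe_kl, jj, ← Matrix.kroneckerMap_transpose, ← Matrix.mul_kronecker_mul,
    ← Matrix.mul_kronecker_mul, two_J, Matrix.transpose_one, Matrix.one_mul, Matrix.mul_one]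

theorem jj_kr (a : SpecialLinearGroup (Fin 2) F) :
    (kr a : Matrix I4 I4 F)ᵀ * jj F * (kr a : Matrix I4 I4 F) = jj F := by
  rw [coe_kr, jj, ← Matrix.kroneckerMap_transpose, ← Matrix.mul_kronecker_mul,
    ← Matrix.mul_kronecker_mul, two_J, Matrix.transpose_one, Matrix.one_mul, Matrix.mul_one]

theorem jj_rad (X : Matrix (Fin 2) (Fin 2) F) :
    (rad X : Matrix I4 I4 F)ᵀ * jj F = jj F * (rad (-adjugate X) : Matrix I4 I4 F) := by
  rw [coe_rad, coe_rad, Matrix.transpose_add, Matrix.transpose_one, Matrix.mul_add, Matrix.add_mul,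
    Matrix.one_mul, Matrix.mul_one, jj, ← Matrix.kroneckerMap_transpose,
    ← Matrix.mul_kronecker_mul, ← Matrix.mul_kronecker_mul]
  congr 1
  obtain ⟨a, b, c, d, rfl⟩ := exists_of_two X
  rw [adj_two]
  ext ⟨i, j⟩ ⟨k, l⟩
  fin_cases i <;> fin_cases j <;> fin_cases k <;> fin_cases l <;>
    simp [nn, Matrix.mul_apply, Fin.sum_univ_two]

variable {B : GL I4 F} (hB : (B : Matrix I4 I4 F) = jj F)

include hB

theorem t_sq : gam B * gam B = 1 := gam_sq B (Or.inl (by rw [hB, jj_T]))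

theorem t_fA (a : SpecialLinearGroup (Fin 2) F) : gam B * fA F a = fA F a * gam B := by
  rw [fA_apply, gam_comm_Cj_iff]
  exact ⟨1, one_ne_zero, by rw [hB, jj_kl, one_smul]⟩

theorem t_fB (a : SpecialLinearGroup (Fin 2) F) : gam B * fB F a = fB F a * gam B := by
  rw [fB_apply, gam_comm_Cj_iff]
  exact ⟨1, one_ne_zero, by rw [hB, jj_kr, one_smul]⟩

theorem t_rad (X : Matrix (Fin 2) (Fin 2) F) :
    Cj (rad X) * gam B * (Cj (rad X))⁻¹ * (gam B)⁻¹ = Cj (rad (X - adjugate X)) := by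
  rw [comm_gam]
  congr 1
  rw [sub_eq_add_neg, rad_add]
  congr 1
  rw [mul_assoc, inv_mul_eq_iff_eq_mul]
  apply Units.ext
  rw [Units.val_mul, Units.val_mul, coe_ct_inv, hB, jj_rad]

/-- structure of the elements of odd order commuting with `t` -/
theorem sem_struct [Fintype F] (h2 : (2 : F) ≠ 0)
    (x : MulAut (Matrix.ProjectiveSpecialLinearGroup I4 F)) {r : ℕ} (hr : Odd r) (hx : x ^ r = 1)
    (hxt : gam B * x = x * gam B) :
    ∃ (A : GL I4 F) (σ : F ≃+* F) (a b : Matrix (Fin 2) (Fin 2) F),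
      (A : Matrix I4 I4 F) = a ⊗ₖ b ∧ x = Sem A σ := by
  obtain ⟨A, σ, rfl⟩ := exists_sem_of_odd (by decide) x hr hx
  refine ⟨A, σ, ?_⟩
  obtain ⟨c, hc, h⟩ := (gam_comm_iff A σ B).1 hxt
  have hσ : (jj F).map σ = jj F := by
    ext ⟨i, j⟩ ⟨k, l⟩
    fin_cases i <;> fin_cases j <;> fin_cases k <;> fin_cases l <;> simp [jj]
  rw [hB, hσ] at h
  have h3 : (A : Matrix I4 I4 F)ᵀ * jj F * (A : Matrix I4 I4 F) = c⁻¹ • jj F := by
    calc (A : Matrix I4 I4 F)ᵀ * jj F * (A : Matrix I4 I4 F) =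
        c⁻¹ • (c • ((A : Matrix I4 I4 F)ᵀ * jj F * (A : Matrix I4 I4 F))) := by
          rw [smul_smul, inv_mul_cancel₀ hc, one_smul]
      _ = _ := by rw [← h]
  obtain ⟨a, b, hab | hab⟩ := Cfsg.Agent.H239.RC.bsim h2 A (inv_ne_zero hc) h3
  · exact ⟨a, b, hab, rfl⟩
  · exfalso
    exact fA_ne_fB (odd_swap (fA F) (fB F) _ hr hx (swap_kl σ hab) (swap_kr σ hab))

end tt

section pts

variable {F : Type} [Field F]

/-- the automorphism group -/
abbrev AA (F : Type*) [Field F] := MulAut (Matrix.ProjectiveSpecialLinearGroup I4 F)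

/-- the elements of the radical fixing a point -/
noncomputable def VV {H : Subgroup (MulAut (Matrix.ProjectiveSpecialLinearGroup I4 F))}
    (ω : MulAut (Matrix.ProjectiveSpecialLinearGroup I4 F) ⧸ H) :
    AddSubgroup (Matrix (Fin 2) (Fin 2) F) where
  carrier := {X | Cj (rad X) • ω = ω}
  add_mem' := by
    intro X Y hX hY
    show Cj (rad (X + Y)) • ω = ω
    rw [rad_add, map_mul, mul_smul]
    have hX' : Cj (rad X) • ω = ω := hX
    have hY' : Cj (rad Y) • ω = ω := hY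
    rw [hY', hX']
  zero_mem' := by
    show Cj (rad 0) • ω = ω
    rw [rad_zero, map_one, one_smul]
  neg_mem' := by
    intro X hX
    show Cj (rad (-X)) • ω = ω
    have hX' : Cj (rad X) • ω = ω := hX
    have h : rad (-X) = (rad X)⁻¹ := by
      rw [eq_inv_iff_mul_eq_one, ← rad_add, neg_add_cancel, rad_zero]
    rw [h, map_inv, inv_smul_eq_iff, hX']

variable {H : Subgroup (MulAut (Matrix.ProjectiveSpecialLinearGroup I4 F))}

theorem mem_VV {ω : AA F ⧸ H} {X : Matrix (Fin 2) (Fin 2) F} :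
    X ∈ VV ω ↔ Cj (rad X) • ω = ω := Iff.rfl

/-- points of the orbit -/
def Orb (ω : AA F ⧸ H) : Prop := ∃ n ∈ inn (Matrix.ProjectiveSpecialLinearGroup I4 F), ω = (n : AA F ⧸ H)

theorem Orb.smul {ω : AA F ⧸ H} (h : Orb ω) {g : GL I4 F} (hg : (g : Matrix I4 I4 F).det = 1) :
    Orb (Cj g • ω) := by
  obtain ⟨n, hn, rfl⟩ := h
  exact ⟨Cj g * n, (inn _).mul_mem (Cj_mem_inn g hg) hn, rfl⟩

theorem det_inv_eq {g : GL I4 F} (hg : (g : Matrix I4 I4 F).det = 1) :
    ((g⁻¹ : GL I4 F) : Matrix I4 I4 F).det = 1 := by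
  have h : (g : Matrix I4 I4 F).det * ((g⁻¹ : GL I4 F) : Matrix I4 I4 F).det = 1 := by
    rw [← det_mul, ← Units.val_mul, mul_inv_cancel, Units.val_one, det_one]
  rwa [hg, one_mul] at h

/-- the stabiliser in the abelian radical is constant on its orbits -/
theorem VV_rad (ω : AA F ⧸ H) (Y : Matrix (Fin 2) (Fin 2) F) : VV (Cj (rad Y) • ω) = VV ω := by
  ext X
  rw [mem_VV, mem_VV]
  have h : Cj (rad X) * Cj (rad Y) = Cj (rad Y) * Cj (rad X) := by
    rw [← map_mul, ← map_mul, ← rad_add, ← rad_add, add_comm]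
  rw [← mul_smul, h, mul_smul]
  constructor
  · intro h; exact smul_left_cancel _ h
  · intro h; rw [h]

variable {B : GL I4 F} (hB : (B : Matrix I4 I4 F) = jj F)
  (hst : ∀ ω : AA F ⧸ H, Orb ω → gam B • ω = ω ∨ (∀ k, fA F k • ω = ω) ∨ (∀ k, fB F k • ω = ω))

include hB hst

/-- if `t` fixes all points of the orbit of the radical -/
theorem sl_of_t (h2 : (2 : F) ≠ 0) (ω : AA F ⧸ H)
    (h : ∀ X : Matrix (Fin 2) (Fin 2) F, gam B • Cj (rad X) • ω = Cj (rad X) • ω) (a b c : F) :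
    !![a, b; c, -a] ∈ VV ω := by
  have h0 := h 0
  rw [rad_zero, map_one, one_smul] at h0
  have h1 := h (-!![a / 2, b / 2; c / 2, -a / 2])
  have h3 : (Cj (rad !![a / 2, b / 2; c / 2, -a / 2]) * gam B *
      (Cj (rad !![a / 2, b / 2; c / 2, -a / 2]))⁻¹ * (gam B)⁻¹) • ω = ω := by
    have e : (Cj (rad !![a / 2, b / 2; c / 2, -a / 2]))⁻¹ =
        Cj (rad (-!![a / 2, b / 2; c / 2, -a / 2])) := by
      rw [inv_eq_iff_mul_eq_one, ← map_mul, ← rad_add, add_neg_cancel, rad_zero, map_one]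
    have h4 : (gam B)⁻¹ • ω = ω := by rw [inv_smul_eq_iff, h0]
    rw [mul_smul, h4, mul_smul, mul_smul, e, h1, ← mul_smul, ← map_mul, ← rad_add, add_neg_cancel,
      rad_zero, map_one, one_smul]
  rw [t_rad hB] at h3
  rw [mem_VV]
  have e : !![a, b; c, -a] = !![a / 2, b / 2; c / 2, -a / 2] -
      adjugate !![a / 2, b / 2; c / 2, -a / 2] := by
    rw [adj_two]
    ext i j
    fin_cases i <;> fin_cases j <;> simp <;> field_simp <;> ring
  rw [e]
  exact h3

/-- the key dichotomy -/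
theorem key_point (h2 : (2 : F) ≠ 0) (ω : AA F ⧸ H) (hω : Orb ω) :
    (∀ c : F, c • (1 : Matrix (Fin 2) (Fin 2) F) ∈ VV ω) ∨
    (∀ a b c : F, !![a, b; c, -a] ∈ VV ω) ∨
    (∀ X ∈ VV ω, ∃ c : F, X = c • 1) := by
  by_cases h1 : ∀ c : F, c • (1 : Matrix (Fin 2) (Fin 2) F) ∈ VV ω
  · exact Or.inl h1
  right
  push Not at h1
  obtain ⟨c₀, hc₀⟩ := h1
  by_cases h3 : ∀ a b c : F, !![a, b; c, -a] ∈ VV ω
  · exact Or.inl h3
  -- some point is not fixed by `t`
  have h4 : ∃ X : Matrix (Fin 2) (Fin 2) F, gam B • Cj (rad X) • ω ≠ Cj (rad X) • ω := by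
    by_contra hcon
    push Not at hcon
    exact h3 (sl_of_t hB hst h2 ω hcon)
  obtain ⟨X, hX⟩ := h4
  have h5 : ∀ k, fB F k • Cj (rad X) • ω = Cj (rad X) • ω := by
    rcases hst _ (hω.smul (det_rad X)) with h5 | h5 | h5
    · exact absurd h5 hX
    · exfalso
      apply hc₀
      rw [← VV_rad ω X, mem_VV, ← kl_u]
      exact h5 _
    · exact h5
  rw [← VV_rad ω X]
  apply inv_two h2
  intro b Y hY
  rw [mem_VV] at hY ⊢
  rw [← kr_rad, map_mul, map_mul, map_inv]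
  have h6 := h5 b
  rw [fB_apply] at h6
  have h7 : (Cj (kr b))⁻¹ • Cj (rad X) • ω = Cj (rad X) • ω := by
    rw [inv_smul_eq_iff, h6]
  rw [mul_smul, mul_smul, h7, hY, h6]

theorem VV_all (h2 : (2 : F) ≠ 0) (ω : AA F ⧸ H) (hω : Orb ω) :
    (∀ X ∈ VV ω, X = 0) ∨ (∀ X, X ∈ VV ω) := by
  apply zero_or_all h2
  intro g
  -- the point `bd g • ω`
  have hω' : Orb (Cj (bd g) • ω) := hω.smul (det_bd g)
  have hV : ∀ X, X ∈ VV (Cj (bd g) • ω) ↔ X * g.1 ∈ VV ω := by
    intro X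
    rw [mem_VV, mem_VV, ← bd_rad, map_mul, map_mul, map_inv, mul_smul, mul_smul, inv_smul_eq_iff]
  rcases key_point hB hst h2 _ hω' with h | h | h
  · left
    intro c
    have := (hV _).1 (h c)
    rwa [Matrix.smul_mul, Matrix.one_mul] at this
  · right; left
    intro a b c
    exact (hV _).1 (h a b c)
  · right; right
    intro X hX
    have hg1 : adjugate g.1 * g.1 = 1 := by
      rw [Matrix.adjugate_mul, g.2, one_smul]
    obtain ⟨c, hc⟩ := h (X * adjugate g.1) ((hV _).2 (by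
      rwa [Matrix.mul_assoc, hg1, Matrix.mul_one]))
    refine ⟨c, ?_⟩
    have h3 := congrArg (fun Z => Z * g.1) hc
    simpa only [Matrix.mul_assoc, hg1, Matrix.mul_one, Matrix.smul_mul, Matrix.one_mul] using h3

/-- the radical fixes every point -/
theorem rad_fix (h2 : (2 : F) ≠ 0) (ω : AA F ⧸ H) (hω : Orb ω) : ∀ X, X ∈ VV ω := by
  rcases VV_all hB hst h2 ω hω with h | h
  swap
  · exact h
  exfalso
  -- some point is not fixed by `t`
  have h4 : ∃ X : Matrix (Fin 2) (Fin 2) F, gam B • Cj (rad X) • ω ≠ Cj (rad X) • ω := by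
    by_contra hcon
    push Not at hcon
    have h3 := h _ (sl_of_t hB hst h2 ω hcon 1 0 0)
    have := congrFun (congrFun h3 0) 0
    simp at this
  obtain ⟨X, hX⟩ := h4
  have h5 : ∀ k, fB F k • Cj (rad X) • ω = Cj (rad X) • ω := by
    rcases hst _ (hω.smul (det_rad X)) with h5 | h5 | h5
    · exact absurd h5 hX
    · exfalso
      have h6 : (1 : F) • (1 : Matrix (Fin 2) (Fin 2) F) ∈ VV ω := by
        rw [← VV_rad ω X, mem_VV, ← kl_u]
        exact h5 _
      rw [one_smul] at h6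
      exact one_ne_zero (h _ h6)
    · exact h5
  -- the other radical
  set ω' := Cj (rad X) • ω with hω'
  have ho : Orb ω' := hω.smul (det_rad X)
  have hfd : (((fl F)⁻¹ : GL I4 F) : Matrix I4 I4 F).det = 1 := det_inv_eq det_fl
  have hV : ∀ Y, Y ∈ VV (Cj (fl F)⁻¹ • ω') ↔ Cj (fl F * rad Y * (fl F)⁻¹) • ω' = ω' := by
    intro Y
    rw [mem_VV, map_mul, map_mul, mul_smul, mul_smul, map_inv]
    constructor
    · intro h; rw [h, smul_inv_smul]
    · intro h
      apply smul_left_cancel (Cj (fl F))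
      rw [h, smul_inv_smul]
  rcases VV_all hB hst h2 _ (ho.smul hfd) with h7 | h7
  · have h8 : !![-1, 0; 0, 1] ∈ VV (Cj (fl F)⁻¹ • ω') := by
      rw [hV, fl_one]
      exact h5 _
    have := congrFun (congrFun (h7 _ h8) 1) 1
    simp at this
  · have h8 := (hV _).1 (h7 (-nn F))
    rw [fl_nn] at h8
    have h9 : nn F ∈ VV ω := by
      rw [← VV_rad ω X]
      exact h8
    have := congrFun (congrFun (h _ h9) 0) 1
    simp [nn] at this

end pts

/-- **box BO4** -/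
theorem killed_O4 {F : Type} [Field F] [Fintype F] (h2 : (2 : F) ≠ 0) (hq : 5 ≤ Fintype.card F)
    (hRC : RCo (Matrix.ProjectiveSpecialLinearGroup (Fin 2) F))
    (B : GL (Fin 2 × Fin 2) F)
    (hB : (B : Matrix (Fin 2 × Fin 2) (Fin 2 × Fin 2) F) =
      Matrix.kroneckerMap (· * ·) !![0, 1; -1, 0] !![0, 1; -1, 0]) :
    Killed (gam B) := by
  have hB' : (B : Matrix I4 I4 F) = jj F := hB
  rw [killed_iff]
  intro κ _ x r hF H hcov
  have hS : IsSimpleGroup (Matrix.ProjectiveSpecialLinearGroup (Fin 2 × Fin 2) F) :=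
    Cfsg.Agent.LieClassical.SLGen.psl_isSimpleGroup (by decide)
  have hodd : ∀ i, Odd (r i) := fun i => (hF.pr i).odd_of_ne_two (hF.ne2 i)
  have hstr := fun i => sem_struct hB' h2 (x i) (hodd i) (hF.pow i) (hF.commt i)
  have hst := star hF (t_sq hB') hcov
    (Matrix.ProjectiveSpecialLinearGroup.rank_two_simple (by rw [Nat.card_eq_fintype_card]; omega))
    (psl_not_comm F) hRC (fA F) (fB F) fA_eq_one fB_eq_one fA_inn fB_inn (t_fA hB') (t_fB hB')
    fA_fB
    (fun i k => by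
      obtain ⟨A, σ, a, b, hab, hx⟩ := hstr i
      rw [hx]
      exact sem_kl σ hab k)
    (fun i k => by
      obtain ⟨A, σ, a, b, hab, hx⟩ := hstr i
      rw [hx]
      exact sem_kr σ hab k)
    (fun i h₁ h₂ => by
      obtain ⟨A, σ, a, b, hab, hx⟩ := hstr i
      rw [hx] at h₁ h₂ ⊢
      exact sem_cent σ hab h₁ h₂)
  have hst' : ∀ ω : MulAut (Matrix.ProjectiveSpecialLinearGroup I4 F) ⧸ H, Orb ω →
      gam B • ω = ω ∨ (∀ k, fA F k • ω = ω) ∨ (∀ k, fB F k • ω = ω) := by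
    rintro _ ⟨n, hn, rfl⟩
    exact hst n hn
  apply inn_le_of_fix hS (Cj_mem_inn (rad (nn F)) (det_rad _)) ?_ H
  · intro n hn
    exact rad_fix hB' hst' h2 _ ⟨n, hn, rfl⟩ (nn F)
  · rw [Ne, Cj_eq_one_iff]
    rintro ⟨c, hc⟩
    have := congrFun (congrFun hc (0, 0)) (1, 1)
    simp [coe_rad, nn] at this

end Cfsg.Agent.H815.RC
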