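import Mathlib
import Cfsg.Agent.H384.RC.KRule

/-!
# S3510 part B, box BO4: two commuting subgroups (helper815)

`t` centralises two commuting quasisimple subgroups `M₁ = f₁(K)`, `M₂ = f₂(K)`; every point of the
orbit is fixed by `t`, by `M₁` or by `M₂`.
-/

set_option autoImplicit false
open MulAction

namespace Cfsg.Agent.H815.RC

open Cfsg.Agent.H106.RC Cfsg.Agent.H384.RC

variable {S : Type*} [Group S]

/-- the two-step M-rule -/
theorem star {K : Type*} [Group K] {κ : Type} [Finite κ]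
    {t : MulAut S} {x : κ → MulAut S} {r : κ → ℕ} (hF : Fam t x r) (htt : t * t = 1)
    {H : Subgroup (MulAut S)} (hcov : CovH t x H)
    (hK : IsSimpleGroup (K ⧸ Subgroup.center K)) (hKn : ¬ IsMulCommutative (K ⧸ Subgroup.center K))
    (hRC : RCo (K ⧸ Subgroup.center K))
    (f₁ f₂ : K →* MulAut S) (hf₁ : ∀ k, f₁ k = 1 ↔ k ∈ Subgroup.center K)
    (hf₂ : ∀ k, f₂ k = 1 ↔ k ∈ Subgroup.center K)
    (hi₁ : ∀ k, f₁ k ∈ inn S) (hi₂ : ∀ k, f₂ k ∈ inn S)
    (ht₁ : ∀ k, t * f₁ k = f₁ k * t) (ht₂ : ∀ k, t * f₂ k = f₂ k * t)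
    (h₁₂ : ∀ k l, f₁ k * f₂ l = f₂ l * f₁ k)
    (hn₁ : ∀ i k, ∃ k', x i * f₁ k * (x i)⁻¹ = f₁ k')
    (hn₂ : ∀ i k, ∃ k', x i * f₂ k * (x i)⁻¹ = f₂ k')
    (hc : ∀ i, (∀ k, x i * f₁ k = f₁ k * x i) → (∀ k, x i * f₂ k = f₂ k * x i) → x i = 1) :
    ∀ n ∈ inn S, t • ((n : MulAut S) : MulAut S ⧸ H) = (n : MulAut S) ∨
      (∀ k, f₁ k • ((n : MulAut S) : MulAut S ⧸ H) = (n : MulAut S)) ∨
      (∀ k, f₂ k • ((n : MulAut S) : MulAut S ⧸ H) = (n : MulAut S)) := by
  intro n hn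
  by_contra hcon
  push Not at hcon
  obtain ⟨htn, ⟨k₁, hk₁⟩, ⟨k₂, hk₂⟩⟩ := hcon
  obtain ⟨π₁, hπ₁⟩ := exists_pi f₁ hf₁
  obtain ⟨π₂, hπ₂⟩ := exists_pi f₂ hf₂
  have hnorm₁ : ∀ i, x i ∈ Subgroup.normalizer (f₁.range : Set (MulAut S)) := fun i =>
    mem_norm_range f₁ (x i) (hF.pr i).pos (hF.pow i) (hn₁ i)
  have hnorm₂ : ∀ i, x i ∈ Subgroup.normalizer (f₂.range : Set (MulAut S)) := fun i =>
    mem_norm_range f₂ (x i) (hF.pr i).pos (hF.pow i) (hn₂ i)
  have hnt₁ : t ∈ Subgroup.normalizer (f₁.range : Set (MulAut S)) :=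
    mem_norm_range f₁ t two_pos (by rw [pow_two, htt]) fun k => ⟨k, by
      rw [ht₁, mul_inv_cancel_right]⟩
  -- the family with `t`
  have hr' : ∀ i, ((fun o : Option κ => o.elim 2 r) i).Prime := by
    rintro (_ | i)
    · exact Nat.prime_two
    · exact hF.pr i
  have hinj' : Function.Injective (fun o : Option κ => o.elim 2 r) := by
    rintro (_ | i) (_ | j) h
    · rfl
    · exact absurd h.symm (hF.ne2 j)
    · exact absurd h (hF.ne2 i)
    · exact congrArg some (hF.inj h)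
  have hx' : ∀ i, (fun o : Option κ => o.elim t x) i ^ (fun o : Option κ => o.elim 2 r) i = 1 := by
    rintro (_ | i)
    · show t ^ 2 = 1
      rw [pow_two, htt]
    · exact hF.pow i
  have hc' : ∀ i j : Option κ, (fun o : Option κ => o.elim t x) i * (fun o : Option κ => o.elim t x) j =
      (fun o : Option κ => o.elim t x) j * (fun o : Option κ => o.elim t x) i := by
    rintro (_ | i) (_ | j)
    · rfl
    · exact hF.commt j
    · exact (hF.commt i).symm
    · exact hF.comm i j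
  have hnorm' : ∀ i, (fun o : Option κ => o.elim t x) i ∈
      Subgroup.normalizer (f₁.range : Set (MulAut S)) := by
    rintro (_ | i)
    · exact hnt₁
    · exact hnorm₁ i
  -- every point of `M₂ n` is fixed by some `x j` which centralises `M₁`
  have key : ∀ k, ∃ j, (∀ l, x j * f₁ l = f₁ l * x j) ∧
      x j • f₂ k • ((n : MulAut S) : MulAut S ⧸ H) = f₂ k • ((n : MulAut S) : MulAut S ⧸ H) := by
    intro k
    have h1 := mrule hK hKn (fun o : Option κ => o.elim t x) (fun o : Option κ => o.elim 2 r)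
      hr' hinj' hx' hc' f₁.range (comm_eq_of_simple hK hKn _ π₁) π₁.toMonoidHom π₁.surjective
      (by
        intro z hz
        have : z = 1 := π₁.injective (by rw [map_one]; exact hz)
        rw [this]
        exact Subgroup.one_mem _)
      hnorm' (fun g hg α hα => hRC α (odd_ind hF f₁.range π₁.toMonoidHom π₁.surjective
        (by rintro _ ⟨k, rfl⟩; exact ht₁ k)
        (fun i m hm => (Subgroup.mem_normalizer_iff.1 (hnorm₁ i) m).1 hm) g hg α hα))
      (f₂ k • ((n : MulAut S) : MulAut S ⧸ H)) (by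
        rintro _ ⟨l, rfl⟩
        have e : f₁ l • f₂ k • ((n : MulAut S) : MulAut S ⧸ H) =
          ((f₁ l * (f₂ k * n) : MulAut S) : MulAut S ⧸ H) := rfl
        rw [e]
        rcases hcov.pt (f₁ l * (f₂ k * n))
          ((inn S).mul_mem (hi₁ l) ((inn S).mul_mem (hi₂ k) hn)) with h | ⟨i, h⟩
        · exact ⟨none, h⟩
        · exact ⟨some i, h⟩)
    rcases h1 with h1 | ⟨j, h1, h2⟩
    · exfalso
      have h3 : f₁ k₁ • f₂ k • ((n : MulAut S) : MulAut S ⧸ H) =
          f₂ k • ((n : MulAut S) : MulAut S ⧸ H) := h1 ⟨k₁, rfl⟩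
      rw [← mul_smul, h₁₂, mul_smul] at h3
      exact hk₁ (smul_left_cancel _ h3)
    · rcases j with _ | j
      · exfalso
        have h3 : t • f₂ k • ((n : MulAut S) : MulAut S ⧸ H) =
          f₂ k • ((n : MulAut S) : MulAut S ⧸ H) := h2
        rw [← mul_smul, ht₂, mul_smul] at h3
        exact htn (smul_left_cancel _ h3)
      · exact ⟨j, fun l => h1 _ ⟨l, rfl⟩, h2⟩
  -- the M-rule for `M₂` and the subfamily
  let κ' := {j : κ // ∀ l, x j * f₁ l = f₁ l * x j}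
  have h1 := mrule hK hKn (fun j : κ' => x j.1) (fun j : κ' => r j.1)
    (fun j => hF.pr j.1) (fun i j h => Subtype.ext (hF.inj h)) (fun j => hF.pow j.1)
    (fun i j => hF.comm i.1 j.1) f₂.range (comm_eq_of_simple hK hKn _ π₂) π₂.toMonoidHom
    π₂.surjective
    (by
      intro z hz
      have : z = 1 := π₂.injective (by rw [map_one]; exact hz)
      rw [this]
      exact Subgroup.one_mem _)
    (fun j => hnorm₂ j.1) (fun g hg α hα => hRC α (odd_ind hF f₂.range π₂.toMonoidHom π₂.surjective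
        (by rintro _ ⟨k, rfl⟩; exact ht₂ k)
        (fun i m hm => (Subgroup.mem_normalizer_iff.1 (hnorm₂ i) m).1 hm) g (by
          refine Subgroup.closure_mono ?_ hg
          rintro _ ⟨j, rfl⟩
          exact ⟨some j.1, rfl⟩) α hα))
    ((n : MulAut S) : MulAut S ⧸ H) (by
      rintro _ ⟨k, rfl⟩
      obtain ⟨j, hj, hj'⟩ := key k
      exact ⟨⟨j, hj⟩, hj'⟩)
  rcases h1 with h1 | ⟨j, h1, h2⟩
  · exact hk₂ (h1 ⟨k₂, rfl⟩)
  · exact hF.ne1 j.1 (hc j.1 j.2 fun k => h1 _ ⟨k, rfl⟩)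

end Cfsg.Agent.H815.RC
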