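import Mathlib

/-!
# S3510 part B, box BO4: additive subgroups of `M₂(F)` (helper815)
-/

set_option autoImplicit false

namespace Cfsg.Agent.H815.RC

open Matrix

variable {F : Type*} [Field F]

/-- the Weyl element -/
def wSL (F : Type*) [Field F] : SpecialLinearGroup (Fin 2) F :=
  ⟨!![0, 1; -1, 0], by rw [Matrix.det_fin_two_of]; ring⟩

/-- upper unipotent -/
def uSL (s : F) : SpecialLinearGroup (Fin 2) F :=
  ⟨!![1, s; 0, 1], by rw [Matrix.det_fin_two_of]; ring⟩

/-- lower unipotent -/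
def lSL (s : F) : SpecialLinearGroup (Fin 2) F :=
  ⟨!![1, 0; s, 1], by rw [Matrix.det_fin_two_of]; ring⟩

theorem adj_two (a b c d : F) : adjugate !![a, b; c, d] = !![d, -b; -c, a] := by
  rw [Matrix.adjugate_fin_two_of]

/-- conjugation action -/
def cjm (b : SpecialLinearGroup (Fin 2) F) (X : Matrix (Fin 2) (Fin 2) F) :
    Matrix (Fin 2) (Fin 2) F := b.1 * X * adjugate b.1

theorem cjm_u (s a b c d : F) : cjm (uSL s) !![a, b; c, d] =
    !![a + s * c, b + s * d - s * (a + s * c); c, d - s * c] := by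
  rw [cjm, uSL, adj_two]
  simp only [Matrix.mul_fin_two]
  ext i j
  fin_cases i <;> fin_cases j <;> simp <;> ring

theorem cjm_l (s a b c d : F) : cjm (lSL s) !![a, b; c, d] =
    !![a - s * b, b; s * a + c - s * (s * b + d), s * b + d] := by
  rw [cjm, lSL, adj_two]
  simp only [Matrix.mul_fin_two]
  ext i j
  fin_cases i <;> fin_cases j <;> simp <;> ring

theorem cjm_w (a b c d : F) : cjm (wSL F) !![a, b; c, d] = !![d, -c; -b, a] := by
  rw [cjm, wSL, adj_two]
  simp only [Matrix.mul_fin_two]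
  ext i j
  fin_cases i <;> fin_cases j <;> simp

theorem exists_of_two (X : Matrix (Fin 2) (Fin 2) F) : ∃ a b c d, X = !![a, b; c, d] :=
  ⟨_, _, _, _, Matrix.eta_fin_two X⟩

/-- `sl₂` is irreducible over the prime field -/
theorem irr (h2 : (2 : F) ≠ 0) (U : AddSubgroup (Matrix (Fin 2) (Fin 2) F))
    (hinv : ∀ b : SpecialLinearGroup (Fin 2) F, ∀ X ∈ U, cjm b X ∈ U) {a₀ b₀ c₀ : F}
    (hX : !![a₀, b₀; c₀, -a₀] ∈ U) (h0 : ¬ (a₀ = 0 ∧ b₀ = 0 ∧ c₀ = 0)) (a b c : F) :
    !![a, b; c, -a] ∈ U := by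
  -- commutators with upper unipotents
  have hD : ∀ s a b c : F, !![a, b; c, -a] ∈ U → !![s * c, -(2 * s * a) - s ^ 2 * c; 0, -(s * c)] ∈ U := by
    intro s a b c h
    have h1 := U.sub_mem (hinv (uSL s) _ h) h
    rw [cjm_u] at h1
    convert h1 using 1
    ext i j
    fin_cases i <;> fin_cases j <;> simp <;> ring
  -- an upper triangular element with `a ≠ 0`
  have h1 : ∃ a b : F, a ≠ 0 ∧ !![a, b; 0, -a] ∈ U := by
    have hc : ∀ a b c : F, c ≠ 0 → !![a, b; c, -a] ∈ U → ∃ a b : F, a ≠ 0 ∧ !![a, b; 0, -a] ∈ U := by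
      intro a b c hc h
      have := hD 1 a b c h
      refine ⟨1 * c, _, by rwa [one_mul], this⟩
    by_cases hc0 : c₀ = 0
    · by_cases ha0 : a₀ = 0
      · have hb0 : b₀ ≠ 0 := fun h => h0 ⟨ha0, h, hc0⟩
        have h3 := hinv (wSL F) _ hX
        rw [cjm_w] at h3
        refine hc a₀ (-c₀) (-b₀) (neg_ne_zero.2 hb0) ?_
        convert h3 using 1
        ext i j
        fin_cases i <;> fin_cases j <;> simp [ha0]
      · exact ⟨a₀, b₀, ha0, by rwa [hc0] at hX⟩
    · exact hc _ _ _ hc0 hX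
  obtain ⟨a₁, b₁, ha₁, h3⟩ := h1
  have h4 : ∀ β : F, !![0, β; 0, 0] ∈ U := by
    intro β
    have := hD (-β / (2 * a₁)) _ _ _ h3
    convert this using 1
    ext i j
    fin_cases i <;> fin_cases j <;> simp
    field_simp
  have h5 : ∀ γ : F, !![0, 0; γ, 0] ∈ U := by
    intro γ
    have := hinv (wSL F) _ (h4 (-γ))
    rw [cjm_w] at this
    convert this using 1
    ext i j
    fin_cases i <;> fin_cases j <;> simp
  have h6 : ∀ α : F, !![α, 0; 0, -α] ∈ U := by
    intro α
    have h7 := hD 1 0 0 α (by simpa using h5 α)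
    have h8 := U.add_mem h7 (h4 α)
    convert h8 using 1
    ext i j
    fin_cases i <;> fin_cases j <;> simp
  have h7 := U.add_mem (U.add_mem (h6 a) (h4 b)) (h5 c)
  convert h7 using 1
  ext i j
  fin_cases i <;> fin_cases j <;> simp

/-- `SL₂`-invariant additive subgroups of `M₂` -/
theorem inv_two (h2 : (2 : F) ≠ 0) (V : AddSubgroup (Matrix (Fin 2) (Fin 2) F))
    (hinv : ∀ b : SpecialLinearGroup (Fin 2) F, ∀ X ∈ V, cjm b X ∈ V) :
    (∀ a b c : F, !![a, b; c, -a] ∈ V) ∨ (∀ X ∈ V, ∃ c : F, X = c • 1) := by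
  by_cases h : ∀ X ∈ V, ∃ c : F, X = c • 1
  · exact Or.inr h
  left
  push Not at h
  obtain ⟨X, hX, hX'⟩ := h
  obtain ⟨a, b, c, d, rfl⟩ := exists_of_two X
  -- commutator with an upper or lower unipotent
  have h1 := V.sub_mem (hinv (uSL 1) _ hX) hX
  have h3 := V.sub_mem (hinv (lSL 1) _ hX) hX
  rw [cjm_u] at h1
  rw [cjm_l] at h3
  have h1' : !![c, d - a - c; 0, -c] ∈ V := by
    convert h1 using 1
    ext i j
    fin_cases i <;> fin_cases j <;> simp <;> ring
  have h3' : !![-b, 0; a - b - d, b] ∈ V := by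
    convert h3 using 1
    ext i j
    fin_cases i <;> fin_cases j <;> simp <;> ring
  by_cases hz : c = 0 ∧ d - a - c = 0
  · have hb : b ≠ 0 := by
      intro hb
      apply hX' a
      ext i j
      fin_cases i <;> fin_cases j <;> simp [hb, hz.1]
      have := hz.2
      rw [hz.1] at this
      linear_combination this
    intro a' b' c'
    refine irr h2 V hinv (a₀ := -b) (b₀ := 0) (c₀ := a - b - d) (by simpa using h3') ?_ a' b' c'
    rintro ⟨h, -, -⟩
    exact hb (neg_eq_zero.1 h)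
  · intro a' b' c'
    refine irr h2 V hinv (a₀ := c) (b₀ := d - a - c) (c₀ := 0) h1' ?_ a' b' c'
    rintro ⟨h, h', -⟩
    exact hz ⟨h, h'⟩

/-- the trichotomy forces `V = 0` or `V = M₂` -/
theorem zero_or_all (h2 : (2 : F) ≠ 0) (V : AddSubgroup (Matrix (Fin 2) (Fin 2) F))
    (h : ∀ g : SpecialLinearGroup (Fin 2) F, (∀ c : F, c • g.1 ∈ V) ∨
      (∀ a b c : F, !![a, b; c, -a] * g.1 ∈ V) ∨ (∀ X ∈ V, ∃ c : F, X = c • g.1)) :
    (∀ X ∈ V, X = 0) ∨ (∀ X, X ∈ V) := by
  by_cases h0 : ∀ X ∈ V, X = 0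
  · exact Or.inl h0
  right
  by_contra hall
  push Not at h0
  obtain ⟨v, hv, hv0⟩ := h0
  -- no `sl₂ g` in `V`
  have hno : ∀ g : SpecialLinearGroup (Fin 2) F, ¬ ∀ a b c : F, !![a, b; c, -a] * g.1 ∈ V := by
    intro g hg
    have e : (uSL (1 : F) * g).1 = (uSL (1 : F)).1 * g.1 := rfl
    have hg1 : adjugate g.1 * g.1 = 1 := by
      rw [Matrix.adjugate_mul, g.2, one_smul]
    have hg2 : g.1 * adjugate g.1 = 1 := by
      rw [Matrix.mul_adjugate, g.2, one_smul]
    rcases h (uSL 1 * g) with h1 | h1 | h1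
    · apply hall
      intro Y
      obtain ⟨a, b, c, d, hY⟩ := exists_of_two (Y * adjugate g.1)
      have h3 := V.add_mem (hg (a - (a + d) / 2) (b - (a + d) / 2) c) (h1 ((a + d) / 2))
      convert h3 using 1
      have h4 : Y = Y * adjugate g.1 * g.1 := by rw [Matrix.mul_assoc, hg1, Matrix.mul_one]
      rw [h4, hY, e, ← Matrix.smul_mul, ← Matrix.add_mul]
      congr 1
      ext i j
      fin_cases i <;> fin_cases j <;> simp [uSL]
      field_simp
      ring
    · apply hall
      intro Y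
      obtain ⟨a, b, c, d, hY⟩ := exists_of_two (Y * adjugate g.1)
      have h3 := V.add_mem (hg a b (c - (a + d))) (h1 0 0 (a + d))
      convert h3 using 1
      have h4 : Y = Y * adjugate g.1 * g.1 := by rw [Matrix.mul_assoc, hg1, Matrix.mul_one]
      rw [h4, hY, e, ← Matrix.mul_assoc, ← Matrix.add_mul]
      congr 1
      simp only [uSL, Matrix.mul_fin_two]
      ext i j
      fin_cases i <;> fin_cases j <;> simp
    · obtain ⟨c, hc⟩ := h1 _ (hg 0 1 0)
      rw [e, ← Matrix.smul_mul] at hc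
      have h3 := congrArg (fun Z => Z * adjugate g.1) hc
      simp only [Matrix.mul_assoc, hg2, Matrix.mul_one] at h3
      have h4 := congrFun (congrFun h3 0) 0
      have h5 := congrFun (congrFun h3 0) 1
      simp [uSL] at h4 h5
      rw [← h4] at h5
      exact one_ne_zero h5
  have h' : ∀ g : SpecialLinearGroup (Fin 2) F, (∀ c : F, c • g.1 ∈ V) ∨
      (∀ X ∈ V, ∃ c : F, X = c • g.1) := by
    intro g
    rcases h g with h1 | h1 | h1
    · exact Or.inl h1
    · exact absurd h1 (hno g)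
    · exact Or.inr h1
  have h1 : ∀ c : F, c • (1 : Matrix (Fin 2) (Fin 2) F) ∈ V := by
    rcases h' 1 with h1 | h1
    · exact h1
    · exfalso
      obtain ⟨c, hc⟩ := h1 v hv
      rcases h' (wSL F) with h3 | h3
      · obtain ⟨c', hc'⟩ := h1 _ (h3 1)
        have := congrFun (congrFun hc' 0) 1
        simp [wSL] at this
      · obtain ⟨c', hc'⟩ := h3 v hv
        apply hv0
        rw [hc] at hc'
        have := congrFun (congrFun hc' 0) 0
        simp [wSL] at this
        rw [hc, this, zero_smul]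
  have h3 : ∀ g : SpecialLinearGroup (Fin 2) F, (g.1 0 1 ≠ 0 ∨ g.1 1 0 ≠ 0) →
      ∀ c : F, c • g.1 ∈ V := by
    intro g hg
    rcases h' g with h4 | h4
    · exact h4
    · exfalso
      obtain ⟨c, hc⟩ := h4 _ (h1 1)
      have e0 := congrFun (congrFun hc 0) 0
      have e1 := congrFun (congrFun hc 0) 1
      have e2 := congrFun (congrFun hc 1) 0
      simp at e0 e1 e2
      have hc0 : c ≠ 0 := by
        rintro rfl
        simp at e0
      rcases hg with hg | hg
      · rcases e1 with e1 | e1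
        · exact hc0 e1
        · exact hg e1
      · rcases e2 with e2 | e2
        · exact hc0 e2
        · exact hg e2
  have hb : ∀ s : F, !![0, s; 0, 0] ∈ V := by
    intro s
    have := V.sub_mem (h3 (uSL 1) (Or.inl (by simp [uSL])) s) (h1 s)
    convert this using 1
    ext i j
    fin_cases i <;> fin_cases j <;> simp [uSL]
  have hc : ∀ s : F, !![0, 0; s, 0] ∈ V := by
    intro s
    have := V.sub_mem (h3 (lSL 1) (Or.inr (by simp [lSL])) s) (h1 s)
    convert this using 1
    ext i j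
    fin_cases i <;> fin_cases j <;> simp [lSL]
  have hd : ∀ s : F, !![0, 0; 0, s] ∈ V := by
    intro s
    have h4 := h3 ⟨!![1, 1; 1, 2], by rw [Matrix.det_fin_two_of]; ring⟩ (Or.inl (by simp)) s
    have := V.sub_mem (V.sub_mem (V.sub_mem h4 (h1 s)) (hb s)) (hc s)
    convert this using 1
    ext i j
    fin_cases i <;> fin_cases j <;> simp
    ring
  apply hall
  intro Y
  obtain ⟨a, b, c, d, rfl⟩ := exists_of_two Y
  have := V.add_mem (V.add_mem (V.add_mem (h1 a) (hb b)) (hc c)) (hd (d - a))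
  convert this using 1
  ext i j
  fin_cases i <;> fin_cases j <;> simp

end Cfsg.Agent.H815.RC
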